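import Groth.Agent.Lib.SquareOpen.Curves
import Groth.Agent.Lib.Rigidity.Smooth.Curve
import Groth.Agent.Lib.CurvePoints.Basic
import Groth.Agent.Lib.NagataCurve.Algebra
import Groth.Agent.Lib.Euler.Rank

/-!
# Relations on points which hold along curves
-/

universe u

open CategoryTheory CategoryTheory.Limits MonoidalCategory CartesianMonoidalCategory AlgebraicGeometry

set_option backward.isDefEq.respectTransparency false

noncomputable section

namespace GrothLib.Cube

variable {k : Type u} [Field k]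

/-- A relation on points holds along open pieces of complete smooth curves. -/
def RelOnCurves (U : Over (Spec (CommRingCat.of k)))
    (r : (𝟙_ (Over (Spec (CommRingCat.of k))) ⟶ U) → (𝟙_ (Over (Spec (CommRingCat.of k))) ⟶ U) → Prop) : Prop :=
  ∀ (N C : Over (Spec (CommRingCat.of k))), IsProper N.hom → Smooth N.hom → IsIntegral N.left →
    ∀ (j : C ⟶ N), IsOpenImmersion j.left → ∀ (φ : C ⟶ U) (c₀ c₁ : 𝟙_ (Over (Spec (CommRingCat.of k))) ⟶ C),
      r (c₀ ≫ φ) (c₁ ≫ φ)

variable [IsAlgClosed k]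

/-- A point in the image lifts to a point. -/
theorem exists_point_over {X Y : Over (Spec (CommRingCat.of k))} [LocallyOfFiniteType X.hom] [QuasiCompact X.hom]
    [LocallyOfFiniteType Y.hom] (f : X ⟶ Y) (b : 𝟙_ (Over (Spec (CommRingCat.of k))) ⟶ Y)
    (hb : IsClosed ({ptOf b} : Set Y.left)) (h : ptOf b ∈ Set.range f.left) :
    ∃ a : 𝟙_ (Over (Spec (CommRingCat.of k))) ⟶ X, a ≫ f = b := by
  haveI : CompactSpace X.left := QuasiCompact.compactSpace_of_compactSpace X.hom
  obtain ⟨x, hx, hxc⟩ := IsClosed.exists_closed_singleton (S := f.left ⁻¹' {ptOf b})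
    (hb.preimage f.left.continuous) h
  obtain ⟨a, ha, -⟩ := exists_point_factor x hxc
  refine ⟨a, eq_of_ptOf_eq ?_⟩
  rw [← apply_ptOf, show ptOf a = x from ha]
  exact hx

theorem isClosed_ptOf {Y : Over (Spec (CommRingCat.of k))} [LocallyOfFiniteType Y.hom]
    (b : 𝟙_ (Over (Spec (CommRingCat.of k))) ⟶ Y) : IsClosed ({ptOf b} : Set Y.left) :=
  ((pointEquivClosedPoint Y.hom) ⟨b.left, Over.w b⟩).2

variable {U : Over (Spec (CommRingCat.of k))}
  {r : (𝟙_ (Over (Spec (CommRingCat.of k))) ⟶ U) → (𝟙_ (Over (Spec (CommRingCat.of k))) ⟶ U) → Prop}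

/-- On a connected smooth curve all points are related. -/
theorem rel_of_dim_le_one (hr : Equivalence r) (hrc : RelOnCurves U r) (V : Over (Spec (CommRingCat.of k)))
    [Smooth V.hom] [IsSeparated V.hom] [QuasiCompact V.hom] [IsIntegral V.left]
    (hd : topologicalKrullDim V.left ≤ 1) (φ : V ⟶ U)
    (c d : 𝟙_ (Over (Spec (CommRingCat.of k))) ⟶ V) : r (c ≫ φ) (d ≫ φ) := by
  by_cases hcd : c = d
  · rw [hcd]; exact hr.refl _
  haveI : IsLocallyNoetherian V.left := LocallyOfFiniteType.isLocallyNoetherian V.hom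
  haveI : CompactSpace V.left := QuasiCompact.compactSpace_of_compactSpace V.hom
  haveI : IsNoetherian V.left := ⟨⟩
  -- around every point
  have key : ∀ c : 𝟙_ (Over (Spec (CommRingCat.of k))) ⟶ V, ∃ O : V.left.Opens, (O : Set V.left).Nonempty ∧
      ∀ e : 𝟙_ (Over (Spec (CommRingCat.of k))) ⟶ V, ptOf e ∈ O → r (c ≫ φ) (e ≫ φ) := by
    intro c'
    let O₁ : V.left.Opens := ⟨{ptOf c'}ᶜ, (isClosed_ptOf c').isOpen_compl⟩
    have hO₁ : (O₁ : Set V.left).Nonempty := by
      by_contra hne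
      have hall : ∀ q : V.left, q = ptOf c' := fun q => by
        by_contra hq
        exact hne ⟨q, hq⟩
      exact hcd (eq_of_ptOf_eq ((hall _).trans (hall _).symm))
    obtain ⟨N, pN, N₀, ψ, hP, hS, hI, hψ, ⟨n₀, hn₀⟩, ⟨n₁, hn₁⟩⟩ :=
      Rigidity.exists_proper_curve V.hom (ptOf c') (isClosed_ptOf c') O₁ hO₁ (fun h => h rfl)
    haveI := hP; haveI := hS; haveI := hI
    let NO : Over (Spec (CommRingCat.of k)) := Over.mk pN
    let C : Over (Spec (CommRingCat.of k)) := Over.mk (N₀.ι ≫ pN)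
    let j : C ⟶ NO := Over.homMk N₀.ι rfl
    let ψ' : C ⟶ V := Over.homMk ψ hψ
    haveI : IsLocallyNoetherian N := LocallyOfFiniteType.isLocallyNoetherian pN
    haveI : CompactSpace N := QuasiCompact.compactSpace_of_compactSpace pN
    haveI : IsNoetherian N := ⟨⟩
    haveI : QuasiCompact N₀.ι := inferInstance
    haveI : QuasiCompact C.hom := inferInstanceAs (QuasiCompact (N₀.ι ≫ pN))
    haveI : LocallyOfFiniteType C.hom := inferInstanceAs (LocallyOfFiniteType (N₀.ι ≫ pN))
    haveI : LocallyOfFiniteType (ψ ≫ V.hom) := by rw [hψ]; infer_instance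
    haveI : LocallyOfFiniteType ψ := locallyOfFiniteType_of_comp ψ V.hom
    haveI : LocallyOfFinitePresentation ψ := inferInstance
    haveI : CompactSpace (N₀ : Scheme.{u}) := isCompact_iff_compactSpace.mp (TopologicalSpace.NoetherianSpace.isCompact _)
    haveI : QuasiCompact ψ := inferInstance
    haveI : Nonempty (N₀ : Scheme.{u}) := ⟨n₀⟩
    have hη : ψ (genericPoint (N₀ : Scheme.{u})) = genericPoint V.left := by
      refine CurvePoints.map_genericPoint_of_nontrivial hd ψ ⟨_, ⟨n₀, rfl⟩, _, ⟨n₁, rfl⟩, ?_⟩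
      intro h
      exact hn₁ (h.symm.trans hn₀)
    obtain ⟨O, hOo, hηO, hO⟩ := NagataCurve.exists_open_closure_iff
      (ψ.isConstructible_image (Topology.IsConstructible.univ)) (genericPoint V.left)
    refine ⟨⟨O, hOo⟩, ⟨_, hηO⟩, fun e he => ?_⟩
    have heR : ptOf e ∈ Set.range ψ'.left := by
      have := (hO _ he (by rw [(genericPoint_spec V.left).def]; trivial)).2 ⟨_, trivial, hη⟩
      obtain ⟨q, -, hq⟩ := this
      exact ⟨q, hq⟩
    obtain ⟨b, hb⟩ := exists_point_over ψ' e (isClosed_ptOf e) heR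
    obtain ⟨a, ha⟩ := exists_point_over ψ' c' (isClosed_ptOf c') ⟨n₀, hn₀⟩
    have := hrc NO C hP hS hI j (inferInstanceAs (IsOpenImmersion N₀.ι)) (ψ' ≫ φ) a b
    rwa [← Category.assoc, ha, ← Category.assoc, hb] at this
  obtain ⟨Oc, hOc, hc⟩ := key c
  obtain ⟨Od, hOd, hd'⟩ := key d
  obtain ⟨e, he⟩ := exists_ptOf_mem (A := V) (O := Oc ⊓ Od) (nonempty_preirreducible_inter Oc.2 Od.2 hOc hOd)
  exact hr.trans (hc e he.1) (hr.symm (hd' e he.2))

end GrothLib.Cube
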