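import Groth.Agent.Lib.SquareOpen.Main
import Groth.Agent.Lib.RedSub.Basic

/-!
# Functions of points which are constant along smooth varieties are constant on connected schemes
-/

universe u

open CategoryTheory CategoryTheory.Limits MonoidalCategory CartesianMonoidalCategory AlgebraicGeometry

set_option backward.isDefEq.respectTransparency false

noncomputable section

namespace GrothLib.Cube

variable {k : Type u} [Field k]

/-- A function of points is constant along smooth varieties. -/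
def ConstOnSmooth {α : Type*} {T : Over (Spec (CommRingCat.of k))}
    (F : (𝟙_ (Over (Spec (CommRingCat.of k))) ⟶ T) → α) : Prop :=
  ∀ (V : Over (Spec (CommRingCat.of k))), Smooth V.hom → IsSeparated V.hom → QuasiCompact V.hom → IsIntegral V.left →
    ∀ (φ : V ⟶ T) (a b : 𝟙_ (Over (Spec (CommRingCat.of k))) ⟶ V), F (a ≫ φ) = F (b ≫ φ)

variable [IsAlgClosed k] {α : Type*} {T : Over (Spec (CommRingCat.of k))}
  {F : (𝟙_ (Over (Spec (CommRingCat.of k))) ⟶ T) → α}

theorem constOnSmooth_comp {T' : Over (Spec (CommRingCat.of k))} (hF : ConstOnSmooth F) (i : T' ⟶ T) :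
    ConstOnSmooth (fun a => F (a ≫ i)) := fun V h1 h2 h3 h4 φ a b => by
  simpa only [Category.assoc] using hF V h1 h2 h3 h4 (φ ≫ i) a b

/-- On an affine integral variety. -/
theorem eq_of_integral (hF : ConstOnSmooth F) [LocallyOfFiniteType T.hom] [IsAffine T.left] [IsIntegral T.left]
    (a b : 𝟙_ (Over (Spec (CommRingCat.of k))) ⟶ T) : F a = F b := by
  haveI : IsLocallyNoetherian T.left := LocallyOfFiniteType.isLocallyNoetherian T.hom
  haveI : IsNoetherian T.left := ⟨⟩
  haveI : LocallyOfFinitePresentation T.hom := inferInstance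
  let O : T.left.Opens := T.hom.smoothLocus
  have hO : (O : Set T.left).Nonempty := T.hom.dense_smoothLocus_of_perfectField.nonempty
  haveI : Smooth (O.ι ≫ T.hom) := by
    rw [← Scheme.Hom.smoothLocus_eq_top_iff, ← Scheme.Hom.preimage_smoothLocus_eq, Scheme.Opens.ι_preimage_self]
  let OV : Over (Spec (CommRingCat.of k)) := Over.mk (O.ι ≫ T.hom)
  let io : OV ⟶ T := Over.homMk O.ι rfl
  haveI : CompactSpace (O : Scheme.{u}) :=
    isCompact_iff_compactSpace.mp (TopologicalSpace.NoetherianSpace.isCompact _)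
  haveI : Nonempty O := hO.to_subtype
  haveI : Smooth OV.hom := inferInstanceAs (Smooth (O.ι ≫ T.hom))
  haveI : IsSeparated OV.hom := inferInstanceAs (IsSeparated (O.ι ≫ T.hom))
  haveI : QuasiCompact OV.hom := inferInstanceAs (QuasiCompact (O.ι ≫ T.hom))
  haveI : IsIntegral OV.left := inferInstanceAs (IsIntegral (O : Scheme.{u}))
  have key : ∀ c : 𝟙_ (Over (Spec (CommRingCat.of k))) ⟶ T, ∃ v : 𝟙_ (Over (Spec (CommRingCat.of k))) ⟶ OV,
      F c = F (v ≫ io) := by
    intro c
    by_cases hc : ptOf c ∈ O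
    · obtain ⟨v, hv⟩ := exists_point_over io c (isClosed_ptOf c) ⟨⟨ptOf c, hc⟩, rfl⟩
      exact ⟨v, by rw [hv]⟩
    obtain ⟨N, pN, N₀, ψ, hP, hS, hI, hψ, ⟨n₀, hn₀⟩, ⟨n₁, hn₁⟩⟩ :=
      Rigidity.exists_proper_curve T.hom (ptOf c) (isClosed_ptOf c) O hO hc
    haveI := hP; haveI := hS; haveI := hI
    let C : Over (Spec (CommRingCat.of k)) := Over.mk (N₀.ι ≫ pN)
    let ψ' : C ⟶ T := Over.homMk ψ hψ
    haveI : IsLocallyNoetherian N := LocallyOfFiniteType.isLocallyNoetherian pN
    haveI : CompactSpace N := QuasiCompact.compactSpace_of_compactSpace pN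
    haveI : IsNoetherian N := ⟨⟩
    haveI : CompactSpace (N₀ : Scheme.{u}) :=
      isCompact_iff_compactSpace.mp (TopologicalSpace.NoetherianSpace.isCompact _)
    haveI : Nonempty (N₀ : Scheme.{u}) := ⟨n₀⟩
    haveI : Smooth C.hom := inferInstanceAs (Smooth (N₀.ι ≫ pN))
    haveI : IsSeparated C.hom := inferInstanceAs (IsSeparated (N₀.ι ≫ pN))
    haveI : QuasiCompact C.hom := inferInstanceAs (QuasiCompact (N₀.ι ≫ pN))
    haveI : IsIntegral C.left := inferInstanceAs (IsIntegral (N₀ : Scheme.{u}))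
    obtain ⟨c₀, hc₀⟩ := exists_point_over ψ' c (isClosed_ptOf c) ⟨n₀, hn₀⟩
    obtain ⟨m, hm⟩ := exists_ptOf_mem (A := C) (O := ψ'.left ⁻¹ᵁ O) ⟨n₁, hn₁⟩
    have hmO : ptOf (m ≫ ψ') ∈ O := by rw [← apply_ptOf]; exact hm
    obtain ⟨v, hv⟩ := exists_point_over io (m ≫ ψ') (isClosed_ptOf _) ⟨⟨_, hmO⟩, rfl⟩
    exact ⟨v, by rw [hv, ← hc₀]; exact hF C inferInstance inferInstance inferInstance inferInstance ψ' c₀ m⟩
  obtain ⟨v, hv⟩ := key a
  obtain ⟨w, hw⟩ := key b
  rw [hv, hw]
  exact hF OV inferInstance inferInstance inferInstance inferInstance io v w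

/-- Locally constant. -/
theorem exists_nhd_eq (hF : ConstOnSmooth F) [LocallyOfFiniteType T.hom]
    (a : 𝟙_ (Over (Spec (CommRingCat.of k))) ⟶ T) :
    ∃ O : T.left.Opens, ptOf a ∈ O ∧ ∀ b : 𝟙_ (Over (Spec (CommRingCat.of k))) ⟶ T, ptOf b ∈ O → F a = F b := by
  obtain ⟨A, hA, haA, -⟩ := exists_isAffineOpen_mem_and_subset (U := (⊤ : T.left.Opens)) (x := ptOf a) trivial
  haveI : IsAffine (A : Scheme.{u}) := hA
  haveI : IsLocallyNoetherian T.left := LocallyOfFiniteType.isLocallyNoetherian T.hom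
  haveI : IsNoetherian (A : Scheme.{u}) := ⟨⟩
  let a' : (A : Scheme.{u}) := ⟨ptOf a, haA⟩
  let bad : Set (A : Scheme.{u}) := ⋃₀ {Z ∈ irreducibleComponents (A : Scheme.{u}) | a' ∉ Z}
  have hbad : IsClosed bad := by
    show IsClosed (⋃₀ _)
    rw [Set.sUnion_eq_biUnion]
    exact (TopologicalSpace.NoetherianSpace.finite_irreducibleComponents.subset fun Z h => h.1).isClosed_biUnion
      fun Z h => isClosed_of_mem_irreducibleComponents Z h.1
  let O : T.left.Opens := A.ι ''ᵁ ⟨badᶜ, hbad.isOpen_compl⟩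
  refine ⟨O, ⟨a', fun ⟨Z, ⟨_, hZ⟩, ha⟩ => hZ ha, rfl⟩, fun b hb => ?_⟩
  obtain ⟨b', hb', hb'e⟩ := hb
  let Z := irreducibleComponent b'
  have haZ : a' ∈ Z := by
    by_contra h
    exact hb' ⟨Z, ⟨irreducibleComponent_mem_irreducibleComponents _, h⟩, mem_irreducibleComponent⟩
  let I := Scheme.IdealSheafData.vanishingIdeal (⟨Z, isClosed_irreducibleComponent⟩ : TopologicalSpace.Closeds (A : Scheme.{u}))
  have hr : Set.range I.subschemeι = Z := by
    rw [Scheme.IdealSheafData.range_subschemeι, Scheme.IdealSheafData.coe_support_vanishingIdeal]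
    rfl
  haveI : IsReduced I.subscheme := RedSub.isReduced_subscheme_vanishingIdeal _
  haveI : IrreducibleSpace I.subscheme := by
    haveI : IrreducibleSpace ↥Z := Subtype.irreducibleSpace isIrreducible_irreducibleComponent
    let e := I.subschemeι.isEmbedding.toHomeomorph.trans (Homeomorph.setCongr hr)
    exact e.symm.surjective.irreducibleSpace e.symm.continuous
  haveI : IsIntegral I.subscheme := isIntegral_of_irreducibleSpace_of_isReduced _
  let T' : Over (Spec (CommRingCat.of k)) := Over.mk (I.subschemeι ≫ A.ι ≫ T.hom)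
  let i : T' ⟶ T := Over.homMk (I.subschemeι ≫ A.ι) (by show (I.subschemeι ≫ A.ι) ≫ T.hom = _; rw [Category.assoc]; rfl)
  haveI : IsIntegral T'.left := inferInstanceAs (IsIntegral I.subscheme)
  haveI : IsAffine T'.left := isAffine_of_isAffineHom I.subschemeι
  haveI : LocallyOfFiniteType T'.hom := inferInstanceAs (LocallyOfFiniteType (I.subschemeι ≫ A.ι ≫ T.hom))
  haveI : QuasiCompact T'.hom := inferInstance
  have lift : ∀ (c : 𝟙_ (Over (Spec (CommRingCat.of k))) ⟶ T) (c' : (A : Scheme.{u})), c' ∈ Z → A.ι c' = ptOf c →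
      ∃ v, v ≫ i = c := by
    intro c c' hc hcc
    obtain ⟨z, hz⟩ : c' ∈ Set.range I.subschemeι := by rw [hr]; exact hc
    exact exists_point_over i c (isClosed_ptOf c) ⟨z, by rw [← hcc, ← hz]; rfl⟩
  obtain ⟨v, hv⟩ := lift a a' haZ rfl
  obtain ⟨w, hw⟩ := lift b b' mem_irreducibleComponent hb'e
  rw [← hv, ← hw]
  exact eq_of_integral (constOnSmooth_comp hF i) v w

/-- On a connected scheme of finite type. -/
theorem eq_of_connected (hF : ConstOnSmooth F) [LocallyOfFiniteType T.hom] [QuasiCompact T.hom]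
    [ConnectedSpace T.left] (a b : 𝟙_ (Over (Spec (CommRingCat.of k))) ⟶ T) : F a = F b := by
  haveI : CompactSpace T.left := QuasiCompact.compactSpace_of_compactSpace T.hom
  choose O hO hOeq using fun c => exists_nhd_eq hF (T := T) c
  let A : Set T.left := ⋃ c ∈ {c | F c = F a}, (O c : Set T.left)
  let B : Set T.left := ⋃ c ∈ {c | F c ≠ F a}, (O c : Set T.left)
  have hcover : A ∪ B = Set.univ := by
    refine Set.eq_univ_of_forall fun x => ?_
    obtain ⟨y, hy, hyc⟩ := IsClosed.exists_closed_singleton (S := closure ({x} : Set T.left)) isClosed_closure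
      ⟨x, subset_closure rfl⟩
    obtain ⟨c, hc, -⟩ := exists_point_factor y hyc
    have hx : x ∈ O c := (specializes_iff_mem_closure.2 hy).mem_open (O c).2 (hc ▸ hO c)
    by_cases h : F c = F a
    · exact Or.inl (Set.mem_biUnion h hx)
    · exact Or.inr (Set.mem_biUnion h hx)
  by_contra hne
  have hB : B.Nonempty := ⟨ptOf b, Set.mem_biUnion (x := b) (fun h => hne h.symm) (hO b)⟩
  have hA : A.Nonempty := ⟨ptOf a, Set.mem_biUnion (x := a) rfl (hO a)⟩
  have hAo : IsOpen A := isOpen_biUnion fun c _ => (O c).2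
  have hBo : IsOpen B := isOpen_biUnion fun c _ => (O c).2
  obtain ⟨x, hx⟩ := nonempty_inter hAo hBo hcover hA hB
  obtain ⟨e, he⟩ := exists_ptOf_mem (A := T) (O := ⟨A ∩ B, hAo.inter hBo⟩) ⟨x, hx⟩
  obtain ⟨c, hc, hec⟩ := Set.mem_iUnion₂.1 he.1
  obtain ⟨d, hd, hed⟩ := Set.mem_iUnion₂.1 he.2
  exact hd ((hOeq d e hed).trans ((hOeq c e hec).symm.trans hc))

end GrothLib.Cube
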