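import Groth.Agent.Lib.SquareOpen.Chain
import Groth.Agent.Lib.Neutral.Connected
import Groth.Agent.Lib.LocNoeth.Scheme
import Groth.Agent.Lib.Japanese.Curve
import Groth.Agent.S0420
import Mathlib.RingTheory.RingHom.StandardSmooth

/-!
# A cone of curves through a point of a smooth variety

For a point with étale coordinates, the preimage of the family of lines through it, cut down to the component of
the point, has geometrically connected general members and dominates the variety.
-/

universe u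

open CategoryTheory CategoryTheory.Limits MonoidalCategory CartesianMonoidalCategory AlgebraicGeometry

set_option backward.isDefEq.respectTransparency false

noncomputable section

namespace GrothLib.Cube

variable {k : Type u} [Field k]

theorem map_genericPoint_of_isOpenMap {X Y : Scheme.{u}} [IsIntegral X] [IsIntegral Y] (f : X ⟶ Y)
    (hf : IsOpenMap f) : f (genericPoint X) = genericPoint Y := by
  obtain ⟨x, -, hx⟩ := (genericPoint_spec Y).mem_open_set_iff (hf _ isOpen_univ) |>.mpr
    ⟨f (Classical.arbitrary X), trivial, Set.mem_image_of_mem f trivial⟩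
  have h1 : f (genericPoint X) ⤳ genericPoint Y := hx ▸ ((genericPoint_spec X).specializes trivial).map f.continuous
  exact (h1.antisymm ((genericPoint_spec Y).specializes trivial)).eq

theorem genericPoint_Spec_eq (R : Type u) [CommRing R] [IsDomain R] :
    genericPoint (Spec (CommRingCat.of R)) = (⟨⊥, Ideal.isPrime_bot⟩ : PrimeSpectrum R) :=
  ((genericPoint_spec (Spec (CommRingCat.of R))).eq (by
    show closure _ = _
    rw [PrimeSpectrum.closure_singleton]; simp))

/-- The lines through a point with direction as a parameter. -/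
def coneMap {n : ℕ} (c : Fin n → k) : MvPolynomial (Fin n) k →+* Polynomial (MvPolynomial (Fin n) k) :=
  MvPolynomial.eval₂Hom (Polynomial.C.comp MvPolynomial.C)
    (fun i => Polynomial.C (MvPolynomial.C (c i)) + Polynomial.C (MvPolynomial.X i) * Polynomial.X)

theorem coneMap_injective {n : ℕ} (c : Fin n → k) : Function.Injective (coneMap c) := by
  let back : Polynomial (MvPolynomial (Fin n) k) →+* MvPolynomial (Fin n) k :=
    Polynomial.eval₂RingHom (MvPolynomial.eval₂Hom MvPolynomial.C
      (fun i => MvPolynomial.X i - MvPolynomial.C (c i))) 1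
  refine Function.LeftInverse.injective (g := back) fun p => ?_
  have : back.comp (coneMap c) = RingHom.id _ := by
    refine MvPolynomial.ringHom_ext (fun r => ?_) fun i => ?_ <;> simp [back, coneMap]
  exact RingHom.congr_fun this p

theorem eval_coneMap {n : ℕ} (c : Fin n → k) :
    (Polynomial.evalRingHom (0 : MvPolynomial (Fin n) k)).comp (coneMap c) =
      MvPolynomial.C.comp (MvPolynomial.eval c) := by
  refine MvPolynomial.ringHom_ext (fun r => ?_) fun i => ?_ <;> simp [coneMap]

/-- Maps to the spectrum of a polynomial ring are determined on coefficients and the variable. -/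
theorem ext_spec_polynomial {X : Scheme.{u}} {K₀ R : Type u} [CommRing K₀] [CommRing R] (i : K₀ →+* R)
    (f g : X ⟶ Spec (CommRingCat.of (Polynomial R)))
    (h₁ : f ≫ Spec.map (CommRingCat.ofHom Polynomial.C) = g ≫ Spec.map (CommRingCat.ofHom Polynomial.C))
    (h₂ : f ≫ Spec.map (CommRingCat.ofHom (Polynomial.mapRingHom i)) =
      g ≫ Spec.map (CommRingCat.ofHom (Polynomial.mapRingHom i))) : f = g := by
  refine ext_of_isAffine ?_
  rw [← cancel_epi (Scheme.ΓSpecIso (CommRingCat.of (Polynomial R))).inv]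
  have aux : ∀ {A : CommRingCat.{u}} (ψ : A ⟶ CommRingCat.of (Polynomial R)),
      f ≫ Spec.map ψ = g ≫ Spec.map ψ →
        ψ ≫ (Scheme.ΓSpecIso _).inv ≫ f.appTop = ψ ≫ (Scheme.ΓSpecIso _).inv ≫ g.appTop := by
    intro A ψ h
    rw [Scheme.ΓSpecIso_inv_naturality_assoc, Scheme.ΓSpecIso_inv_naturality_assoc,
      ← Scheme.Hom.comp_appTop, ← Scheme.Hom.comp_appTop, h]
  refine CommRingCat.hom_ext (Polynomial.ringHom_ext (fun r => ?_) ?_)
  · exact ConcreteCategory.congr_hom (aux _ h₁) r
  · have := RingHom.congr_fun (CommRingCat.hom_ext_iff.1 (aux _ h₂)) Polynomial.X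
    simp only [CommRingCat.hom_comp, RingHom.comp_apply, CommRingCat.hom_ofHom, Polynomial.coe_mapRingHom,
      Polynomial.map_X] at this
    exact this

theorem locallyQuasiFinite_spec_of_etale {A B : CommRingCat.{u}} (φ : A ⟶ B) (h : φ.hom.Etale) :
    LocallyQuasiFinite (Spec.map φ) := by
  rw [HasRingHomProperty.Spec_iff (P := @LocallyQuasiFinite)]
  algebraize [φ.hom]
  exact RingHom.quasiFinite_algebraMap.mpr inferInstance

/-- Quasi-finite over the affine line means dimension at most one. -/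
theorem dim_le_one_of_locallyQuasiFinite {X : Scheme.{u}} (τ : X ⟶ Spec (CommRingCat.of (Polynomial k)))
    [LocallyQuasiFinite τ] : topologicalKrullDim X ≤ 1 := by
  have h1 : topologicalKrullDim (Spec (CommRingCat.of (Polynomial k))) ≤ 1 :=
    (PrimeSpectrum.topologicalKrullDim_eq_ringKrullDim (R := Polynomial k)).le.trans
      (by rw [Polynomial.ringKrullDim_of_isNoetherianRing, ringKrullDim_eq_zero_of_field, zero_add])
  refine (Order.krullDim_eq_of_orderIso (irreducibleSetEquivPoints (α := ↥X))).le.trans ?_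
  rw [Order.krullDim_eq_iSup_coheight]
  refine iSup_le fun x => ?_
  exact_mod_cast (Japanese.Scheme.Hom.coheight_le_of_locallyQuasiFinite τ x).trans
    (Rigidity.coheight_le_one_of_dim h1 (τ x))

variable [IsAlgClosed k] {U : Over (Spec (CommRingCat.of k))}
  {r : (𝟙_ (Over (Spec (CommRingCat.of k))) ⟶ U) → (𝟙_ (Over (Spec (CommRingCat.of k))) ⟶ U) → Prop}

theorem exists_open_rel (hr : Equivalence r) (hrc : RelOnCurves U r) [Smooth U.hom] [IsSeparated U.hom]
    [QuasiCompact U.hom] [IsIntegral U.left] (a : 𝟙_ (Over (Spec (CommRingCat.of k))) ⟶ U) :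
    ∃ O : U.left.Opens, (O : Set U.left).Nonempty ∧
      ∀ b : 𝟙_ (Over (Spec (CommRingCat.of k))) ⟶ U, ptOf b ∈ O → r a b := by
  -- coordinates near `a`
  obtain ⟨U', hU', V, hV, haV, hle, hstd⟩ := Smooth.exists_isStandardSmooth U.hom (ptOf a)
  have hU'top : U' = ⊤ := TopologicalSpace.Opens.ext (Set.eq_univ_of_forall fun q =>
    (Subsingleton.elim (α := PrimeSpectrum k) (U.hom (ptOf a)) q) ▸ hle haV)
  subst hU'top
  let φ₀ : CommRingCat.of k ⟶ Γ(U.left, V) := (Scheme.ΓSpecIso _).inv ≫ U.hom.appLE ⊤ V hle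
  have hφ₀ : φ₀.hom.IsStandardSmooth :=
    RingHom.isStandardSmooth_respectsIso.2 _ (Scheme.ΓSpecIso (CommRingCat.of k)).commRingCatIsoToRingEquiv.symm hstd
  obtain ⟨n, g, hgC, hg⟩ := hφ₀.exists_etale_mvPolynomial
  have hfs : Spec.map φ₀ = hV.fromSpec ≫ U.hom := by
    rw [show φ₀ = (Scheme.ΓSpecIso _).inv ≫ U.hom.appLE ⊤ V hle from rfl, Spec.map_comp,
      ← IsAffineOpen.SpecMap_appLE_fromSpec U.hom (isAffineOpen_top _) hV hle, IsAffineOpen.fromSpec_top,
      Scheme.isoSpec_Spec_inv]
  haveI : Nonempty V := ⟨⟨_, haV⟩⟩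
  let aV : Spec (CommRingCat.of k) ⟶ Spec Γ(U.left, V) := IsOpenImmersion.lift hV.fromSpec a.left (by
    rintro _ ⟨q, rfl⟩
    rw [hV.range_fromSpec, Subsingleton.elim (α := PrimeSpectrum k) q (IsLocalRing.closedPoint k)]
    exact haV)
  let e : Γ(U.left, V) ⟶ CommRingCat.of k := Spec.preimage aV
  have hea : Spec.map e ≫ hV.fromSpec = a.left := by
    rw [Spec.map_preimage]; exact IsOpenImmersion.lift_fac _ _ _
  have heφ : φ₀ ≫ e = 𝟙 _ := by
    apply Spec.map_injective
    rw [Spec.map_comp, hfs, ← Category.assoc, hea, Spec.map_id]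
    exact Over.w a
  let c : Fin n → k := fun i => e.hom (g (MvPolynomial.X i))
  have hec : e.hom.comp g = MvPolynomial.eval c := by
    refine MvPolynomial.ringHom_ext (fun t => ?_) fun i => by simp [c]
    rw [RingHom.comp_apply, ← RingHom.comp_apply g, hgC, MvPolynomial.eval_C]
    exact ConcreteCategory.congr_hom heφ t
  -- the preimage of the lines
  let gg : CommRingCat.of (MvPolynomial (Fin n) k) ⟶ Γ(U.left, V) := CommRingCat.ofHom g
  let ΦΦ : CommRingCat.of (MvPolynomial (Fin n) k) ⟶ CommRingCat.of (Polynomial (MvPolynomial (Fin n) k)) :=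
    CommRingCat.ofHom (coneMap c)
  let CC : CommRingCat.of (MvPolynomial (Fin n) k) ⟶ CommRingCat.of (Polynomial (MvPolynomial (Fin n) k)) :=
    CommRingCat.ofHom Polynomial.C
  let Ck : CommRingCat.of k ⟶ CommRingCat.of (MvPolynomial (Fin n) k) := CommRingCat.ofHom MvPolynomial.C
  haveI : Etale (Spec.map gg) := (HasRingHomProperty.Spec_iff (P := @Etale)).2 hg
  haveI : LocallyQuasiFinite (Spec.map gg) := locallyQuasiFinite_spec_of_etale gg hg
  haveI : Smooth (Spec.map CC) := (HasRingHomProperty.Spec_iff (P := @Smooth)).2 (by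
    rw [show CC.hom = algebraMap (MvPolynomial (Fin n) k) (Polynomial (MvPolynomial (Fin n) k)) from rfl,
      RingHom.smooth_algebraMap]
    exact ({ } : Algebra.Smooth (MvPolynomial (Fin n) k) (Polynomial (MvPolynomial (Fin n) k))))
  haveI : Smooth (Spec.map Ck) := (HasRingHomProperty.Spec_iff (P := @Smooth)).2 (by
    rw [show Ck.hom = algebraMap k (MvPolynomial (Fin n) k) from rfl, RingHom.smooth_algebraMap]
    exact ({ } : Algebra.Smooth k (MvPolynomial (Fin n) k)))
  let Y := pullback (Spec.map gg) (Spec.map ΦΦ)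
  let pA : Y ⟶ Spec Γ(U.left, V) := pullback.fst _ _
  let π : Y ⟶ Spec (CommRingCat.of (Polynomial (MvPolynomial (Fin n) k))) := pullback.snd _ _
  haveI : Etale π := inferInstanceAs (Etale (pullback.snd (Spec.map gg) (Spec.map ΦΦ)))
  haveI : LocallyQuasiFinite π := inferInstanceAs (LocallyQuasiFinite (pullback.snd (Spec.map gg) (Spec.map ΦΦ)))
  let q : Y ⟶ Spec (CommRingCat.of (MvPolynomial (Fin n) k)) := π ≫ Spec.map CC
  haveI : Smooth π := inferInstance
  haveI : Smooth q := inferInstanceAs (Smooth (π ≫ Spec.map CC))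
  have hYk : pA ≫ hV.fromSpec ≫ U.hom = q ≫ Spec.map Ck := by
    have h1 : φ₀ = Ck ≫ gg := by
      apply CommRingCat.hom_ext
      exact hgC.symm
    have h2 : Ck ≫ ΦΦ = Ck ≫ CC := by
      refine CommRingCat.hom_ext (RingHom.ext fun t => ?_)
      simp [ΦΦ, Ck, CC, coneMap]
    rw [← hfs, h1, Spec.map_comp, ← Category.assoc, pullback.condition, Category.assoc, ← Spec.map_comp, h2,
      Spec.map_comp]
    simp [q, π]
  -- the section
  let z₀ : CommRingCat.of (Polynomial (MvPolynomial (Fin n) k)) ⟶ CommRingCat.of (MvPolynomial (Fin n) k) :=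
    CommRingCat.ofHom (Polynomial.evalRingHom 0)
  let σ : Spec (CommRingCat.of (MvPolynomial (Fin n) k)) ⟶ Y :=
    pullback.lift (Spec.map Ck ≫ Spec.map e) (Spec.map z₀) (by
      rw [Category.assoc, ← Spec.map_comp, ← Spec.map_comp, ← Spec.map_comp]
      refine congrArg Spec.map (CommRingCat.hom_ext ?_)
      show MvPolynomial.C.comp (e.hom.comp g) = (Polynomial.evalRingHom 0).comp (coneMap c)
      rw [hec, eval_coneMap])
  have hσq : σ ≫ q = 𝟙 _ := by
    rw [show q = π ≫ Spec.map CC from rfl, ← Category.assoc, pullback.lift_snd, ← Spec.map_comp, ← Spec.map_id]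
    refine congrArg Spec.map (CommRingCat.hom_ext (RingHom.ext fun t => ?_))
    simp [z₀, CC]
  have hσA : σ ≫ pA ≫ hV.fromSpec = Spec.map Ck ≫ a.left := by
    rw [← hea, ← Category.assoc, pullback.lift_fst, Category.assoc]
  -- the component of the section
  haveI : IsNoetherianRing Γ(U.left, V) := by
    haveI := LocallyOfFiniteType.isLocallyNoetherian U.hom
    exact IsLocallyNoetherian.component_noetherian ⟨V, hV⟩
  haveI : CompactSpace Y := QuasiCompact.compactSpace_of_compactSpace π
  haveI : IsLocallyNoetherian Y := LocallyOfFiniteType.isLocallyNoetherian (q ≫ Spec.map Ck)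
  haveI : IsNoetherian Y := ⟨⟩
  let ξ : Spec (CommRingCat.of (MvPolynomial (Fin n) k)) := genericPoint _
  let E : Y.Opens := ⟨connectedComponent (σ ξ), (LocNoeth.isLocNoeth Y).isOpen_connectedComponent _⟩
  haveI : ConnectedSpace (E : Scheme.{u}) := isConnected_iff_connectedSpace.mp isConnected_connectedComponent
  haveI : CompactSpace (E : Scheme.{u}) :=
    isCompact_iff_compactSpace.mp (TopologicalSpace.NoetherianSpace.isCompact _)
  let qE : (E : Scheme.{u}) ⟶ Spec (CommRingCat.of (MvPolynomial (Fin n) k)) := E.ι ≫ q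
  haveI : Smooth qE := inferInstanceAs (Smooth (E.ι ≫ q))
  haveI : IsIntegral (E : Scheme.{u}) := Euler.isIntegral_of_smooth_connected k (qE ≫ Spec.map Ck)
  let σE : Spec (CommRingCat.of (MvPolynomial (Fin n) k)) ⟶ (E : Scheme.{u}) := IsOpenImmersion.lift E.ι σ (by
    rw [Scheme.Opens.range_ι]
    exact (isConnected_range σ.continuous).subset_connectedComponent ⟨ξ, rfl⟩)
  have hσE : σE ≫ E.ι = σ := IsOpenImmersion.lift_fac _ _ _
  have hσEq : σE ≫ qE = 𝟙 _ := by rw [← Category.assoc, hσE, hσq]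
  haveI : UniversallyOpen qE := inferInstance
  have hgenq : qE (genericPoint (E : Scheme.{u})) = ξ := map_genericPoint_of_isOpenMap qE qE.isOpenMap
  -- the generic member is geometrically connected
  have hgeom : GeometricallyConnected (qE.fiberToSpecResidueField ξ) := by
    haveI : ConnectedSpace (qE.fiber ξ) := by
      have hirr : IsIrreducible (qE ⁻¹' {ξ}) := by
        refine ⟨⟨_, hgenq⟩, ?_⟩
        rintro u v hu hv ⟨y₁, -, hy₁⟩ ⟨y₂, -, hy₂⟩
        exact ⟨_, hgenq, ((genericPoint_spec (E : Scheme.{u})).specializes trivial).mem_open hu hy₁,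
          ((genericPoint_spec (E : Scheme.{u})).specializes trivial).mem_open hv hy₂⟩
      haveI : ConnectedSpace (qE ⁻¹' {ξ}) := isConnected_iff_connectedSpace.mp hirr.isConnected
      exact (qE.fiberHomeo ξ).symm.surjective.connectedSpace (qE.fiberHomeo ξ).symm.continuous
    let pt : Spec (CommRingCat.of ((Spec (CommRingCat.of (MvPolynomial (Fin n) k))).residueField ξ)) ⟶ qE.fiber ξ :=
      pullback.lift (Scheme.fromSpecResidueField _ ξ ≫ σE) (𝟙 _) (by
        rw [Category.assoc, hσEq, Category.comp_id, Category.id_comp])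
    exact Neutral.geometricallyConnected_of_point (qE.fiberToSpecResidueField ξ) pt (pullback.lift_snd _ _ _)
  obtain ⟨Vo, hVo, hconn⟩ := Groth.Agent.S0420.result qE hgeom
  -- it dominates
  let ψ : (E : Scheme.{u}) ⟶ U.left := E.ι ≫ pA ≫ hV.fromSpec
  have hdom : ψ (genericPoint (E : Scheme.{u})) = genericPoint U.left := by
    have h1 : (E.ι ≫ π) (genericPoint (E : Scheme.{u})) = genericPoint (Spec (CommRingCat.of (Polynomial (MvPolynomial (Fin n) k)))) := by
      refine map_genericPoint_of_isOpenMap _ (Scheme.Hom.isOpenMap _)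
    let p := (E.ι ≫ pA) (genericPoint (E : Scheme.{u}))
    have h2 : Spec.map gg p = genericPoint (Spec (CommRingCat.of (MvPolynomial (Fin n) k))) := by
      rw [← Scheme.Hom.comp_apply, Category.assoc, pullback.condition, ← Category.assoc, Scheme.Hom.comp_apply, h1,
        genericPoint_Spec_eq, genericPoint_Spec_eq]
      refine PrimeSpectrum.ext ?_
      exact (RingHom.injective_iff_ker_eq_bot (coneMap c)).1 (coneMap_injective c)
    haveI : IsIntegral (Spec Γ(U.left, V)) := inferInstance
    have h3 : p = genericPoint (Spec Γ(U.left, V)) := by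
      refine (Japanese.Scheme.Hom.specializes_eq_of_locallyQuasiFinite (Spec.map gg)
        ((genericPoint_spec _).specializes trivial) ?_).symm
      rw [h2, map_genericPoint_of_isOpenMap _ (Scheme.Hom.isOpenMap _)]
    show hV.fromSpec p = _
    rw [h3, genericPoint_eq_of_isOpenImmersion]
  let W : (E : Scheme.{u}).Opens := qE ⁻¹ᵁ Vo
  let ψW : (W : Scheme.{u}) ⟶ U.left := W.ι ≫ ψ
  have hW : (W : Set (E : Scheme.{u})).Nonempty := by
    obtain ⟨v, hv⟩ := hVo
    exact ⟨σE v, show qE (σE v) ∈ Vo by rw [← Scheme.Hom.comp_apply, hσEq]; exact hv⟩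
  let CE : Over (Spec (CommRingCat.of k)) := Over.mk (W.ι ≫ qE ≫ Spec.map Ck)
  let ψ' : CE ⟶ U := Over.homMk ψW (by
    show (W.ι ≫ E.ι ≫ pA ≫ hV.fromSpec) ≫ U.hom = W.ι ≫ qE ≫ Spec.map Ck
    simp only [Category.assoc, hYk, qE])
  haveI : IsNoetherian (E : Scheme.{u}) := by
    haveI := LocallyOfFiniteType.isLocallyNoetherian qE
    exact ⟨⟩
  haveI : CompactSpace (W : Scheme.{u}) :=
    isCompact_iff_compactSpace.mp (TopologicalSpace.NoetherianSpace.isCompact _)
  haveI : Smooth CE.hom := inferInstanceAs (Smooth (W.ι ≫ qE ≫ Spec.map Ck))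
  haveI : LocallyOfFiniteType CE.hom := inferInstance
  haveI : QuasiCompact CE.hom := inferInstanceAs (QuasiCompact (W.ι ≫ qE ≫ Spec.map Ck))
  haveI : LocallyOfFiniteType ψW := by
    haveI : LocallyOfFiniteType (ψW ≫ U.hom) := by
      rw [show ψW ≫ U.hom = CE.hom from Over.w ψ']; infer_instance
    exact locallyOfFiniteType_of_comp ψW U.hom
  haveI : IsLocallyNoetherian U.left := LocallyOfFiniteType.isLocallyNoetherian U.hom
  haveI : LocallyOfFinitePresentation ψW := inferInstance
  haveI : CompactSpace U.left := QuasiCompact.compactSpace_of_compactSpace U.hom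
  obtain ⟨O, hOo, hηO, hO⟩ := NagataCurve.exists_open_closure_iff
    (ψW.isConstructible_image (Topology.IsConstructible.univ)) (genericPoint U.left)
  refine ⟨⟨O, hOo⟩, ⟨_, hηO⟩, fun b hb => ?_⟩
  have hbR : ptOf b ∈ Set.range ψ'.left := by
    have hηW : genericPoint (E : Scheme.{u}) ∈ W :=
      (genericPoint_spec (E : Scheme.{u})).mem_open_set_iff W.2 |>.mpr ⟨_, trivial, hW.choose_spec⟩
    obtain ⟨z, -, hz⟩ := (hO _ hb (by rw [(genericPoint_spec U.left).def]; trivial)).2
      ⟨⟨_, hηW⟩, trivial, hdom⟩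
    exact ⟨z, hz⟩
  obtain ⟨y, hy⟩ := exists_point_over ψ' b (isClosed_ptOf b) hbR
  -- the member through `b`
  let sR : Spec (CommRingCat.of k) ⟶ Spec (CommRingCat.of (MvPolynomial (Fin n) k)) := y.left ≫ W.ι ≫ qE
  have hsR : sR ≫ Spec.map Ck = 𝟙 _ := by
    simp only [sR, Category.assoc]
    exact Over.w y
  let sV : Spec (CommRingCat.of k) ⟶ (Vo : Scheme.{u}) := y.left ≫ (qE ∣_ Vo)
  have hsV : sV ≫ Vo.ι = sR := by
    simp only [sV, sR, Category.assoc, morphismRestrict_ι]
    rfl
  let CV := pullback (qE ∣_ Vo) sV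
  haveI : ConnectedSpace CV := hconn.geometrically_connectedSpace _ _ _ (IsPullback.of_hasPullback _ _)
  let CVo : Over (Spec (CommRingCat.of k)) := Over.mk (pullback.snd (qE ∣_ Vo) sV)
  haveI : Smooth (qE ∣_ Vo) := inferInstance
  haveI : Smooth CVo.hom := inferInstanceAs (Smooth (pullback.snd (qE ∣_ Vo) sV))
  haveI : QuasiCompact CVo.hom := inferInstanceAs (QuasiCompact (pullback.snd (qE ∣_ Vo) sV))
  haveI : IsSeparated CVo.hom := inferInstanceAs (IsSeparated (pullback.snd (qE ∣_ Vo) sV))
  haveI : ConnectedSpace CVo.left := inferInstanceAs (ConnectedSpace CV)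
  haveI : IsIntegral CVo.left := Euler.isIntegral_of_smooth_connected k (pullback.snd (qE ∣_ Vo) sV)
  let inE : CV ⟶ (E : Scheme.{u}) := pullback.fst (qE ∣_ Vo) sV ≫ W.ι
  have hinE : inE ≫ qE = pullback.snd (qE ∣_ Vo) sV ≫ sR := by
    simp only [inE, Category.assoc]
    rw [← morphismRestrict_ι, ← Category.assoc, pullback.condition, Category.assoc, hsV]
  have hd : topologicalKrullDim CV ≤ 1 := by
    let mC : CommRingCat.of (Polynomial k) ⟶ CommRingCat.of (Polynomial (MvPolynomial (Fin n) k)) :=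
      CommRingCat.ofHom (Polynomial.mapRingHom MvPolynomial.C)
    let κ : CV ⟶ Spec (CommRingCat.of (Polynomial (MvPolynomial (Fin n) k))) := inE ≫ E.ι ≫ π
    let τ : CV ⟶ Spec (CommRingCat.of (Polynomial k)) := κ ≫ Spec.map mC
    let evs := Spec.preimage sR
    have hevs : Spec.map evs = sR := Spec.map_preimage _
    have hev : Ck ≫ evs = 𝟙 _ := Spec.map_injective (by rw [Spec.map_comp, hevs, Spec.map_id, hsR])
    let hm : CommRingCat.of (Polynomial (MvPolynomial (Fin n) k)) ⟶ CommRingCat.of (Polynomial k) :=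
      CommRingCat.ofHom (Polynomial.mapRingHom evs.hom)
    let C₁ : CommRingCat.of k ⟶ CommRingCat.of (Polynomial k) := CommRingCat.ofHom Polynomial.C
    have hκq : κ ≫ Spec.map CC = inE ≫ qE := by simp [κ, qE, q]
    have hτ : τ ≫ Spec.map hm = κ := by
      refine ext_spec_polynomial (MvPolynomial.C : k →+* MvPolynomial (Fin n) k) _ _ ?_ ?_
      · have e1 : CC ≫ hm = evs ≫ C₁ := CommRingCat.hom_ext (RingHom.ext fun t => Polynomial.map_C _)
        have e2 : C₁ ≫ mC = Ck ≫ CC := CommRingCat.hom_ext (RingHom.ext fun t => Polynomial.map_C _)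
        show (τ ≫ Spec.map hm) ≫ Spec.map CC = κ ≫ Spec.map CC
        rw [Category.assoc, ← Spec.map_comp, e1, Spec.map_comp, hκq, hinE, hevs]
        simp only [τ, Category.assoc]
        rw [← Spec.map_comp_assoc, e2, Spec.map_comp_assoc, reassoc_of% hκq, reassoc_of% hinE, reassoc_of% hsR]
      · have e3 : mC ≫ hm = 𝟙 _ := by
          refine CommRingCat.hom_ext (Polynomial.ringHom_ext (fun t => ?_) ?_)
          · simp only [mC, hm, CommRingCat.hom_comp, CommRingCat.hom_id, RingHom.comp_apply, RingHom.id_apply,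
              CommRingCat.hom_ofHom, Polynomial.coe_mapRingHom, Polynomial.map_C]
            rw [show evs.hom (MvPolynomial.C t) = t from ConcreteCategory.congr_hom hev t]
          · simp [mC, hm]
        show (τ ≫ Spec.map hm) ≫ Spec.map mC = κ ≫ Spec.map mC
        rw [Category.assoc, ← Spec.map_comp, e3, Spec.map_id, Category.comp_id]
    haveI : IsClosedImmersion (pullback.fst (qE ∣_ Vo) sV) := by
      haveI : IsClosedImmersion sV := by
        haveI : IsSeparated (Vo.ι ≫ Spec.map Ck) := inferInstance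
        haveI : IsClosedImmersion (sV ≫ Vo.ι ≫ Spec.map Ck) := by
          rw [reassoc_of% hsV, hsR]; infer_instance
        exact IsClosedImmersion.of_comp sV (Vo.ι ≫ Spec.map Ck)
      infer_instance
    haveI : LocallyQuasiFinite inE := inferInstanceAs (LocallyQuasiFinite (pullback.fst (qE ∣_ Vo) sV ≫ W.ι))
    haveI : LocallyQuasiFinite κ := inferInstanceAs (LocallyQuasiFinite (inE ≫ E.ι ≫ π))
    haveI : LocallyQuasiFinite (τ ≫ Spec.map hm) := by rw [hτ]; infer_instance
    haveI : LocallyQuasiFinite τ := LocallyQuasiFinite.of_comp τ (Spec.map hm)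
    exact dim_le_one_of_locallyQuasiFinite τ
  let φ : CVo ⟶ U := Over.homMk (inE ≫ ψ) (by
    show (inE ≫ E.ι ≫ pA ≫ hV.fromSpec) ≫ U.hom = pullback.snd (qE ∣_ Vo) sV
    simp only [Category.assoc, hYk]
    rw [show inE ≫ E.ι ≫ q ≫ Spec.map Ck = (inE ≫ qE) ≫ Spec.map Ck by simp [qE], hinE, Category.assoc, hsR,
      Category.comp_id])
  let c₁ : 𝟙_ (Over (Spec (CommRingCat.of k))) ⟶ CVo :=
    Over.homMk (pullback.lift y.left (𝟙 _) (by rw [Category.id_comp])) (pullback.lift_snd _ _ _)
  have hsσ : (sR ≫ σE) ≫ qE = sR := by rw [Category.assoc, hσEq, Category.comp_id]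
  let y₀ : Spec (CommRingCat.of k) ⟶ (W : Scheme.{u}) := IsOpenImmersion.lift W.ι (sR ≫ σE) (by
    rintro _ ⟨t, rfl⟩
    rw [Scheme.Opens.range_ι]
    show qE ((sR ≫ σE) t) ∈ Vo
    rw [← Scheme.Hom.comp_apply, hsσ, ← hsV, Scheme.Hom.comp_apply]
    exact (sV t).2)
  let c₀ : 𝟙_ (Over (Spec (CommRingCat.of k))) ⟶ CVo :=
    Over.homMk (pullback.lift y₀ (𝟙 _) (by
      rw [Category.id_comp, ← cancel_mono Vo.ι, Category.assoc, morphismRestrict_ι, hsV, ← Category.assoc,
        IsOpenImmersion.lift_fac, hsσ])) (pullback.lift_snd _ _ _)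
  have h₁ : c₁ ≫ φ = b := by
    rw [← hy]
    ext1
    show pullback.lift _ _ _ ≫ (pullback.fst (qE ∣_ Vo) sV ≫ W.ι) ≫ ψ = y.left ≫ ψW
    rw [← Category.assoc, pullback.lift_fst_assoc, Category.assoc]
  have h₀ : c₀ ≫ φ = a := by
    ext1
    show pullback.lift _ _ _ ≫ (pullback.fst (qE ∣_ Vo) sV ≫ W.ι) ≫ ψ = a.left
    rw [← Category.assoc, pullback.lift_fst_assoc, IsOpenImmersion.lift_fac]
    simp only [ψ, Category.assoc]
    rw [← Category.assoc σE, hσE, hσA, ← Category.assoc, hsR]
    exact Category.id_comp _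
  have := rel_of_dim_le_one hr hrc CVo hd φ c₀ c₁
  rwa [h₀, h₁] at this

end GrothLib.Cube
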