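import Groth.Agent.Lib.Cube.Pic
import Groth.Agent.Lib.InvExt.ExtendMain
import Groth.Agent.Lib.RegUFD.Basic
import Groth.Agent.Lib.WeilExt.Extend

/-!
# Classes extend from open subschemes of smooth schemes
-/

universe u

open CategoryTheory CategoryTheory.Limits AlgebraicGeometry
open GrothLib.Ample

set_option backward.isDefEq.respectTransparency false

noncomputable section

namespace GrothLib.Cube

/-- Classes extend along open immersions into schemes with factorial local rings. -/
theorem exists_pull_eq {X Y : Scheme.{u}} [IsLocallyNoetherian X]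
    (hufd : ∀ x : X, UniqueFactorizationMonoid (X.presheaf.stalk x)) (j : Y ⟶ X) [IsOpenImmersion j] (y : Pic Y) :
    ∃ x : Pic X, pull j x = y := by
  let e := j.isoOpensRange
  obtain ⟨c, hc⟩ := Quotient.exists_rep (pull e.inv y)
  have hc' : cls c = pull e.inv y := hc
  have hL := c.isInvertible_twist 1
  obtain ⟨L', hL', ⟨i⟩⟩ := InvExt.exists_extension X j.opensRange _ hL fun x _ => hufd x
  refine ⟨clsMod hL', ?_⟩
  have h1 : pull j.opensRange.ι (clsMod hL') = cls c := by
    rw [← clsMod_pullback, clsMod_eq _ (((Scheme.Modules.restrictFunctorIsoPullback _).app L').symm ≪≫ i)]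
  have hj : j = e.hom ≫ j.opensRange.ι := (j.isoOpensRange_hom_ι).symm
  rw [hj, ← pull_comp, h1, hc', pull_comp, Iso.hom_inv_id, pull_id]

/-- The same for smooth schemes over a field. -/
theorem exists_pull_eq_of_smooth {K : Type u} [Field K] {X Y : Scheme.{u}} (f : X ⟶ Spec (CommRingCat.of K))
    [Smooth f] [IsIntegral X] (j : Y ⟶ X) [IsOpenImmersion j] (y : Pic Y) :
    ∃ x : Pic X, pull j x = y := by
  haveI : IsLocallyNoetherian X := LocallyOfFiniteType.isLocallyNoetherian f
  refine exists_pull_eq (fun x => ?_) j y
  haveI := WeilExt.isRegularLocalRing_stalk_of_smooth f (WeilExt.isRegularLocalRing_stalk_spec K) x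
  exact RegUFD.ufd_of_isRegularLocalRing _

end GrothLib.Cube
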