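import Groth.Agent.Lib.SquareOpen.Proper
import Groth.Agent.Lib.SquareOpen.Extend
import Groth.Agent.Lib.Cube.AmpleCrit

/-!
# The square relation for open pieces of complete smooth varieties
-/

universe u

open CategoryTheory CategoryTheory.Limits MonoidalCategory CartesianMonoidalCategory AlgebraicGeometry

set_option backward.isDefEq.respectTransparency false

noncomputable section

namespace GrothLib.Cube

variable {k : Type u} [Field k]

theorem isOpenImmersion_whiskerLeft_left {T T' : Over (Spec (CommRingCat.of k))}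
    (Q : Over (Spec (CommRingCat.of k))) (i : T' ⟶ T) [IsOpenImmersion i.left] : IsOpenImmersion (Q ◁ i).left :=
  MorphismProperty.of_isPullback (isPullback_whiskerLeft_left Q i).flip inferInstance

theorem isOpenImmersion_whiskerRight_left {T T' : Over (Spec (CommRingCat.of k))}
    (Q : Over (Spec (CommRingCat.of k))) (i : T' ⟶ T) [IsOpenImmersion i.left] : IsOpenImmersion (i ▷ Q).left := by
  have e : i ▷ Q = (β_ T' Q).hom ≫ (Q ◁ i) ≫ (β_ Q T).hom := by simp
  haveI := isOpenImmersion_whiskerLeft_left Q i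
  haveI : IsIso (β_ T' Q).hom.left := inferInstanceAs (IsIso ((Over.forget _).map (β_ T' Q).hom))
  haveI : IsIso (β_ Q T).hom.left := inferInstanceAs (IsIso ((Over.forget _).map (β_ Q T).hom))
  rw [e, Over.comp_left, Over.comp_left]
  infer_instance

theorem isOpenImmersion_tensorHom_left {T T' S S' : Over (Spec (CommRingCat.of k))}
    (i : T' ⟶ T) (j : S' ⟶ S) [IsOpenImmersion i.left] [IsOpenImmersion j.left] :
    IsOpenImmersion (i ⊗ₘ j).left := by
  haveI := isOpenImmersion_whiskerLeft_left T j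
  haveI := isOpenImmersion_whiskerRight_left S' i
  rw [MonoidalCategory.tensorHom_def, Over.comp_left]
  infer_instance

variable [IsAlgClosed k]

/-- A variety has a point. -/
theorem exists_point (W : Over (Spec (CommRingCat.of k))) [LocallyOfFiniteType W.hom] [Nonempty W.left] :
    Nonempty (𝟙_ (Over (Spec (CommRingCat.of k))) ⟶ W) := by
  obtain ⟨a, -⟩ := exists_ptOf_mem (A := W) (O := ⊤) ⟨Classical.arbitrary _, trivial⟩
  exact ⟨a⟩

/-- The square relation for open pieces of complete smooth varieties. -/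
theorem square_of_open {N N' W C C' : Over (Spec (CommRingCat.of k))}
    [IsProper N.hom] [Smooth N.hom] [IsIntegral N.left] [IsProper N'.hom] [Smooth N'.hom] [IsIntegral N'.left]
    [Smooth W.hom] [GeometricallyIntegral W.hom]
    (j : C ⟶ N) (j' : C' ⟶ N') [IsOpenImmersion j.left] [IsOpenImmersion j'.left] (x : Pic ((C ⊗ C') ⊗ W).left)
    (a₀ a₁ : 𝟙_ (Over (Spec (CommRingCat.of k))) ⟶ C) (b₀ b₁ : 𝟙_ (Over (Spec (CommRingCat.of k))) ⟶ C') :
    pull (sliceAt W a₀ b₀).left x * pull (sliceAt W a₁ b₁).left x =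
      pull (sliceAt W a₀ b₁).left x * pull (sliceAt W a₁ b₀).left x := by
  haveI := geometricallyIntegral_of_isIntegral N.hom
  haveI := geometricallyIntegral_of_isIntegral N'.hom
  haveI : IsIntegral W.left := GeometricallyIntegral.isIntegral_of_subsingleton W.hom
  haveI : Smooth (N ⊗ N').hom := inferInstanceAs (Smooth (pullback.fst N.hom N'.hom ≫ N.hom))
  haveI : IsLocallyNoetherian N'.left := LocallyOfFiniteType.isLocallyNoetherian N'.hom
  haveI : IsIntegral (N ⊗ N').left := inferInstanceAs (IsIntegral (pullback N.hom N'.hom))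
  haveI : IsLocallyNoetherian W.left := LocallyOfFiniteType.isLocallyNoetherian W.hom
  haveI := geometricallyIntegral_of_isIntegral (N ⊗ N').hom
  haveI hI : IsIntegral ((N ⊗ N') ⊗ W).left := inferInstanceAs (IsIntegral (pullback (N ⊗ N').hom W.hom))
  haveI : Smooth ((N ⊗ N') ⊗ W).hom :=
    inferInstanceAs (Smooth (pullback.fst (N ⊗ N').hom W.hom ≫ (N ⊗ N').hom))
  haveI := isOpenImmersion_tensorHom_left j j'
  haveI := isOpenImmersion_whiskerRight_left W (j ⊗ₘ j')
  obtain ⟨y, rfl⟩ := exists_pull_eq_of_smooth ((N ⊗ N') ⊗ W).hom ((j ⊗ₘ j') ▷ W).left x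
  obtain ⟨z₀⟩ := exists_point W
  have e : ∀ (a : 𝟙_ (Over (Spec (CommRingCat.of k))) ⟶ C) (b : 𝟙_ (Over (Spec (CommRingCat.of k))) ⟶ C'),
      pull (sliceAt W a b).left (pull ((j ⊗ₘ j') ▷ W).left y) = pull (sliceAt W (a ≫ j) (b ≫ j')).left y := by
    intro a b
    rw [pull_pull_over]
    congr 2
    refine congrArg _ ?_
    ext <;> simp [sliceAt]
  rw [e, e, e, e]
  refine square_of_proper (fun z => ?_) z₀ y _ _ _ _
  haveI := WeilExt.isRegularLocalRing_stalk_of_smooth W.hom (WeilExt.isRegularLocalRing_stalk_spec k) z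
  exact RegLoc.isIntegrallyClosed_of_isRegularLocalRing _

end GrothLib.Cube
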