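import Groth.Agent.Lib.SquareOpen.Cone

/-!
# The square relation on products of smooth varieties, none of which is complete
-/

universe u

open CategoryTheory CategoryTheory.Limits MonoidalCategory CartesianMonoidalCategory AlgebraicGeometry

set_option backward.isDefEq.respectTransparency false

noncomputable section

namespace GrothLib.Cube

variable {k : Type u} [Field k] [IsAlgClosed k]

/-- A relation which holds along curves holds between all points. -/
theorem rel_all {U : Over (Spec (CommRingCat.of k))}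
    {r : (𝟙_ (Over (Spec (CommRingCat.of k))) ⟶ U) → (𝟙_ (Over (Spec (CommRingCat.of k))) ⟶ U) → Prop}
    (hr : Equivalence r) (hrc : RelOnCurves U r) [Smooth U.hom] [IsSeparated U.hom]
    [QuasiCompact U.hom] [IsIntegral U.left] (a b : 𝟙_ (Over (Spec (CommRingCat.of k))) ⟶ U) : r a b := by
  obtain ⟨O, hO, ha⟩ := exists_open_rel hr hrc a
  obtain ⟨O', hO', hb⟩ := exists_open_rel hr hrc b
  obtain ⟨e, he⟩ := exists_ptOf_mem (A := U) (O := O ⊓ O') (nonempty_preirreducible_inter O.2 O'.2 hO hO')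
  exact hr.trans (ha e he.1) (hr.symm (hb e he.2))

variable {U V W : Over (Spec (CommRingCat.of k))}

/-- The ratio of two slices. -/
def ratio (x : Pic ((U ⊗ V) ⊗ W).left) (a₀ a₁ : 𝟙_ (Over (Spec (CommRingCat.of k))) ⟶ U)
    (b : 𝟙_ (Over (Spec (CommRingCat.of k))) ⟶ V) : Pic W.left :=
  pull (sliceAt W a₀ b).left x * (pull (sliceAt W a₁ b).left x)⁻¹

theorem ratio_eq_iff (x : Pic ((U ⊗ V) ⊗ W).left) (a₀ a₁ : 𝟙_ (Over (Spec (CommRingCat.of k))) ⟶ U)
    (b₀ b₁ : 𝟙_ (Over (Spec (CommRingCat.of k))) ⟶ V) :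
    ratio x a₀ a₁ b₀ = ratio x a₀ a₁ b₁ ↔
      pull (sliceAt W a₀ b₀).left x * pull (sliceAt W a₁ b₁).left x =
        pull (sliceAt W a₀ b₁).left x * pull (sliceAt W a₁ b₀).left x :=
  mul_inv_eq_mul_inv_iff_mul_eq_mul

variable [Smooth U.hom] [IsSeparated U.hom] [QuasiCompact U.hom] [IsIntegral U.left]
  [Smooth V.hom] [IsSeparated V.hom] [QuasiCompact V.hom] [IsIntegral V.left]
  [Smooth W.hom] [GeometricallyIntegral W.hom]

/-- **The square relation** for smooth varieties which need not be complete. -/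
theorem square_of_smooth (x : Pic ((U ⊗ V) ⊗ W).left)
    (a₀ a₁ : 𝟙_ (Over (Spec (CommRingCat.of k))) ⟶ U) (b₀ b₁ : 𝟙_ (Over (Spec (CommRingCat.of k))) ⟶ V) :
    pull (sliceAt W a₀ b₀).left x * pull (sliceAt W a₁ b₁).left x =
      pull (sliceAt W a₀ b₁).left x * pull (sliceAt W a₁ b₀).left x := by
  revert a₀ a₁
  intro a₀ a₁
  refine rel_all (U := U) (r := fun a a' => pull (sliceAt W a b₀).left x * pull (sliceAt W a' b₁).left x =
    pull (sliceAt W a b₁).left x * pull (sliceAt W a' b₀).left x) ?_ ?_ a₀ a₁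
  · refine ⟨fun a => mul_comm _ _, fun {a a'} h => ?_, fun {a a' a''} h h' => ?_⟩
    · rw [mul_comm, ← h, mul_comm]
    · refine mul_right_cancel (b := pull (sliceAt W a' b₁).left x * pull (sliceAt W a' b₀).left x) ?_
      calc pull (sliceAt W a b₀).left x * pull (sliceAt W a'' b₁).left x *
            (pull (sliceAt W a' b₁).left x * pull (sliceAt W a' b₀).left x)
          = (pull (sliceAt W a b₀).left x * pull (sliceAt W a' b₁).left x) *
            (pull (sliceAt W a' b₀).left x * pull (sliceAt W a'' b₁).left x) := by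
              simp only [mul_comm, mul_left_comm]
        _ = _ := by rw [h, h']; simp only [mul_comm, mul_left_comm]
  · intro N C hP hS hI j hj φ c₀ c₁
    haveI := hP; haveI := hS; haveI := hI; haveI := hj
    refine (ratio_eq_iff x _ _ b₀ b₁).1 ?_
    refine rel_all (U := V) (r := fun b b' => ratio x (c₀ ≫ φ) (c₁ ≫ φ) b = ratio x (c₀ ≫ φ) (c₁ ≫ φ) b')
      ⟨fun _ => rfl, fun h => h.symm, fun h h' => h.trans h'⟩ ?_ b₀ b₁
    intro N' C' hP' hS' hI' j' hj' φ' d₀ d₁
    haveI := hP'; haveI := hS'; haveI := hI'; haveI := hj'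
    refine (ratio_eq_iff x _ _ _ _).2 ?_
    have e : ∀ (c : 𝟙_ (Over (Spec (CommRingCat.of k))) ⟶ C) (d : 𝟙_ (Over (Spec (CommRingCat.of k))) ⟶ C'),
        pull (sliceAt W (c ≫ φ) (d ≫ φ')).left x = pull (sliceAt W c d).left (pull ((φ ⊗ₘ φ') ▷ W).left x) := by
      intro c d
      rw [pull_pull_over]
      congr 2
      refine congrArg _ ?_
      ext <;> simp [sliceAt]
    simp only [e]
    exact square_of_open j j' _ c₀ c₁ d₀ d₁

end GrothLib.Cube
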