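import Groth.Agent.Lib.Cube.Cube
import Groth.Agent.Lib.Cube.AbVar
import Groth.Agent.Lib.Cube.Torsion

/-!
# The square relation on a product with two complete factors
-/

universe u

open CategoryTheory CategoryTheory.Limits MonoidalCategory CartesianMonoidalCategory AlgebraicGeometry
open GrothLib.Ample

set_option backward.isDefEq.respectTransparency false

noncomputable section

namespace GrothLib.Cube

variable {k : Type u} [Field k] {X Y Z S : Over (Spec (CommRingCat.of k))}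

/-- The slice at a pair of points. -/
abbrev sliceAt (Z : Over (Spec (CommRingCat.of k))) (a : 𝟙_ (Over (Spec (CommRingCat.of k))) ⟶ X)
    (b : 𝟙_ (Over (Spec (CommRingCat.of k))) ⟶ Y) : Z ⟶ (X ⊗ Y) ⊗ Z :=
  lift (lift (toUnit Z ≫ a) (toUnit Z ≫ b)) (𝟙 Z)

/-- The theorem of the cube in the Picard group. -/
theorem eq_one_of_faces [IsProper X.hom] [GeometricallyIntegral X.hom] [IsProper Y.hom] [GeometricallyIntegral Y.hom]
    [IsIntegral Z.left] [LocallyOfFiniteType Z.hom]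
    (hnorm : ∀ z : Z.left, IsIntegrallyClosed (Z.left.presheaf.stalk z))
    (x₀ : 𝟙_ (Over (Spec (CommRingCat.of k))) ⟶ X) (y₀ : 𝟙_ (Over (Spec (CommRingCat.of k))) ⟶ Y)
    (z₀ : 𝟙_ (Over (Spec (CommRingCat.of k))) ⟶ Z) (x : Pic ((X ⊗ Y) ⊗ Z).left)
    (hy : pull (lift (lift (fst X Z) (toUnit _ ≫ y₀)) (snd X Z)).left x = 1)
    (hx : pull (lift (lift (toUnit _ ≫ x₀) (fst Y Z)) (snd Y Z)).left x = 1)
    (hz : pull (lift (𝟙 (X ⊗ Y)) (toUnit (X ⊗ Y) ≫ z₀)).left x = 1) : x = 1 := by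
  induction x using Quotient.inductionOn with
  | h c =>
    refine cls_eq_one_iff.2 (triv_cube hnorm x₀ y₀ z₀ c ?_ ?_ (cls_eq_one_iff.1 ((pull_cls _ c).symm.trans hz)))
    · refine cls_eq_one_iff.1 ((pull_cls _ c).symm.trans (Eq.trans ?_ hy))
      congr 2
      refine congrArg _ ?_
      ext <;> simp
    · refine cls_eq_one_iff.1 ((pull_cls _ c).symm.trans (Eq.trans ?_ hx))
      congr 2
      refine congrArg _ ?_
      ext <;> simp

/-- The square relation when two factors are complete. -/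
theorem square_of_proper [IsProper X.hom] [GeometricallyIntegral X.hom] [IsProper Y.hom] [GeometricallyIntegral Y.hom]
    [IsIntegral Z.left] [LocallyOfFiniteType Z.hom]
    (hnorm : ∀ z : Z.left, IsIntegrallyClosed (Z.left.presheaf.stalk z))
    (z₀ : 𝟙_ (Over (Spec (CommRingCat.of k))) ⟶ Z) (x : Pic ((X ⊗ Y) ⊗ Z).left)
    (a₀ a₁ : 𝟙_ (Over (Spec (CommRingCat.of k))) ⟶ X) (b₀ b₁ : 𝟙_ (Over (Spec (CommRingCat.of k))) ⟶ Y) :
    pull (sliceAt Z a₀ b₀).left x * pull (sliceAt Z a₁ b₁).left x =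
      pull (sliceAt Z a₀ b₁).left x * pull (sliceAt Z a₁ b₀).left x := by
  let A : Pic (X ⊗ Z).left := pull (lift (lift (fst X Z) (toUnit _ ≫ b₀)) (snd X Z)).left x
  let B : Pic (Y ⊗ Z).left := pull (lift (lift (toUnit _ ≫ a₀) (fst Y Z)) (snd Y Z)).left x
  let C : Pic Z.left := pull (sliceAt Z a₀ b₀).left x
  let π₁ : (X ⊗ Y) ⊗ Z ⟶ X ⊗ Z := lift (fst _ _ ≫ fst X Y) (snd _ _)
  let π₂ : (X ⊗ Y) ⊗ Z ⟶ Y ⊗ Z := lift (fst _ _ ≫ snd X Y) (snd _ _)
  let w := x * (pull π₁.left A * pull π₂.left B * (pull (snd (X ⊗ Y) Z).left C)⁻¹)⁻¹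
  let D : Pic (X ⊗ Y).left := pull (lift (𝟙 (X ⊗ Y)) (toUnit (X ⊗ Y) ≫ z₀)).left w
  let iy := lift (lift (fst X Z) (toUnit _ ≫ b₀)) (snd X Z)
  let ix := lift (lift (toUnit _ ≫ a₀) (fst Y Z)) (snd Y Z)
  have wy : pull iy.left w = 1 := by
    have e1 : iy ≫ π₁ = 𝟙 _ := by ext <;> simp [iy, π₁]
    have e2 : iy ≫ π₂ = snd X Z ≫ lift (toUnit Z ≫ b₀) (𝟙 Z) := by ext <;> simp [iy, π₂]
    have e3 : lift (toUnit Z ≫ b₀) (𝟙 Z) ≫ ix = sliceAt Z a₀ b₀ := by ext <;> simp [ix, sliceAt]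
    simp only [w, map_mul, map_inv, pull_pull_over, e1, e2]
    rw [pull_over_id, ← pull_pull_over (snd X Z) (lift (toUnit Z ≫ b₀) (𝟙 Z)) B]
    simp only [B]
    rw [pull_pull_over (lift (toUnit Z ≫ b₀) (𝟙 Z)) ix, e3, show iy ≫ snd (X ⊗ Y) Z = snd X Z by simp [iy]]
    simp only [A, C, iy]
    simp
  have wx : pull ix.left w = 1 := by
    have e2 : ix ≫ π₂ = 𝟙 _ := by ext <;> simp [ix, π₂]
    have e1 : ix ≫ π₁ = snd Y Z ≫ lift (toUnit Z ≫ a₀) (𝟙 Z) := by ext <;> simp [ix, π₁]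
    have e3 : lift (toUnit Z ≫ a₀) (𝟙 Z) ≫ iy = sliceAt Z a₀ b₀ := by ext <;> simp [iy, sliceAt]
    simp only [w, map_mul, map_inv, pull_pull_over, e1, e2]
    rw [pull_over_id, ← pull_pull_over (snd Y Z) (lift (toUnit Z ≫ a₀) (𝟙 Z)) A]
    simp only [A]
    rw [pull_pull_over (lift (toUnit Z ≫ a₀) (𝟙 Z)) iy, e3, show ix ≫ snd (X ⊗ Y) Z = snd Y Z by simp [ix]]
    simp only [B, C, ix]
    simp
  have hw : w * (pull (fst (X ⊗ Y) Z).left D)⁻¹ = 1 := by
    refine eq_one_of_faces hnorm a₀ b₀ z₀ _ ?_ ?_ ?_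
    · show pull iy.left _ = 1
      rw [map_mul, map_inv, wy, pull_pull_over, one_mul, inv_eq_one]
      simp only [D]
      rw [pull_pull_over]
      have e : (iy ≫ fst _ _) ≫ lift (𝟙 (X ⊗ Y)) (toUnit (X ⊗ Y) ≫ z₀) = lift (fst X Z) (toUnit _ ≫ z₀) ≫ iy := by
        ext <;> simp [iy]
      rw [e, ← pull_pull_over, wy, map_one]
    · show pull ix.left _ = 1
      rw [map_mul, map_inv, wx, pull_pull_over, one_mul, inv_eq_one]
      simp only [D]
      rw [pull_pull_over]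
      have e : (ix ≫ fst _ _) ≫ lift (𝟙 (X ⊗ Y)) (toUnit (X ⊗ Y) ≫ z₀) = lift (fst Y Z) (toUnit _ ≫ z₀) ≫ ix := by
        ext <;> simp [ix]
      rw [e, ← pull_pull_over, wx, map_one]
    · rw [map_mul, map_inv, pull_pull_over, lift_fst, pull_over_id]
      exact mul_inv_cancel D
  have hev : ∀ (a : 𝟙_ (Over (Spec (CommRingCat.of k))) ⟶ X) (b : 𝟙_ (Over (Spec (CommRingCat.of k))) ⟶ Y),
      pull (sliceAt Z a b).left x =
        pull (lift (toUnit Z ≫ a) (𝟙 Z)).left A * pull (lift (toUnit Z ≫ b) (𝟙 Z)).left B * C⁻¹ := by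
    intro a b
    have hx : x = pull (fst (X ⊗ Y) Z).left D *
        (pull π₁.left A * pull π₂.left B * (pull (snd (X ⊗ Y) Z).left C)⁻¹) := by
      have := mul_inv_eq_one.1 hw
      rw [← this]
      exact (inv_mul_cancel_right x _).symm
    rw [hx]
    have e0 : sliceAt Z a b ≫ fst _ _ = toUnit Z ≫ lift a b := by ext <;> simp [sliceAt]
    have e1 : sliceAt Z a b ≫ π₁ = lift (toUnit Z ≫ a) (𝟙 Z) := by ext <;> simp [sliceAt, π₁]
    have e2 : sliceAt Z a b ≫ π₂ = lift (toUnit Z ≫ b) (𝟙 Z) := by ext <;> simp [sliceAt, π₂]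
    have e3 : sliceAt Z a b ≫ snd _ _ = 𝟙 Z := by simp [sliceAt]
    simp only [map_mul, map_inv, pull_pull_over, e0, e1, e2, e3, pull_toUnit_comp, pull_over_id, one_mul]
  rw [hev, hev, hev, hev]
  simp only [mul_comm, mul_left_comm]

end GrothLib.Cube
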